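import Cfsg.Agent.Lib.KnownB.TypeM24Unique.Kernel
import Cfsg.Agent.Lib.KnownB.TypeM23.Main
import Cfsg.Agent.Lib.KnownB.TypeM22Unique.Main
import Cfsg.Agent.Lib.Spor.Fi22.FixPoint.Main

/-!
An involution of a group of type M(24) fixes one of the members: a commuting pair swapped by it
induces an automorphism of order at most two on the group of type M(22) of the common partners,
which fixes a member there.
-/

set_option autoImplicit false

namespace CfsgLib.KnownB.TypeM24.Invol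

open Cfsg CfsgLib.ThreeTransp CfsgLib.Involutions
open CfsgLib.KnownB.TypeM22 CfsgLib.KnownB.TypeM23
open CfsgLib.KnownB.TypeM24.Unique

universe u

variable {G : Type u} [Group G] [Finite G] {D : Set G}

/-- An automorphism of order at most two of a group of type M(22) preserving the class fixes a member. -/
theorem fixes_m22 (S : TypeM22.Setting D) (φ : G ≃* G) (hD : ∀ d ∈ D, φ d ∈ D) (h2 : ∀ x, φ (φ x) = x) :
    ∃ d ∈ D, φ d = d := by
  obtain ⟨e, he⟩ := TypeM22.Unique.exists_iso_of_setting S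
  obtain ⟨ψ, hψ⟩ : ∃ ψ : MulAut Cfsg.Spor.Fi22, ψ = e.symm.trans (φ.trans e) := ⟨_, rfl⟩
  obtain ⟨c, hc, hfix⟩ := CfsgLib.Spor.Fi22.FixPoint.exists_fixed ψ (fun x hx => by
    rw [← he] at hx ⊢
    obtain ⟨d, hd, rfl⟩ := hx
    exact ⟨φ d, hD d hd, by simp [hψ]⟩) (fun x => by simp [hψ, h2])
  rw [← he] at hc
  obtain ⟨d, hd, rfl⟩ := hc
  exact ⟨d, hd, e.injective (by simpa [hψ] using hfix)⟩

/-- The common partners generate a subgroup of the group of the partners of the first. -/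
theorem pair_le {a b : G} :
    Subgroup.closure (nb D a ∩ nb D b) ≤ Subgroup.closure (nb D a) :=
  Subgroup.closure_mono Set.inter_subset_left

/-- The subgroup of the common partners is mapped into that of the partners of the image. -/
theorem pair_image24 (S : Setting24 D) {a b : G} (ha : a ∈ D) (hb : b ∈ nb D a) {x : G}
    (hx : x ∈ Subgroup.closure (nb D a ∩ nb D b)) :
    qd D a x ∈ Subgroup.closure (nb (Dq D a) (qd D a b)) := by
  induction hx using Subgroup.closure_induction with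
  | mem y hy => exact Subgroup.subset_closure ((S.pair_mem ha hb hy.1).2 hy)
  | one => rw [qd_one]; exact one_mem _
  | mul u v hu hv iu iv => rw [qd_mul (pair_le hu) (pair_le hv)]; exact mul_mem iu iv
  | inv u hu iu => rw [qd_inv (pair_le hu)]; exact inv_mem iu

/-- An involution swapping two commuting members fixes a common partner of them. -/
theorem fixed_of_swap (S : Setting24 D) {a b g : G} (ha : a ∈ D) (hb : b ∈ nb D a)
    (hg : g * g = 1) (hab : g * a * g⁻¹ = b) : ∃ y ∈ D, g * y * g⁻¹ = y := by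
  have hgi : g⁻¹ = g := inv_eq_of_mul_eq_one_right hg
  have hba : g * b * g⁻¹ = a := by
    rw [← hab, hgi]
    calc g * (g * a * g) * g = g * g * a * (g * g) := by group
      _ = a := by rw [hg, one_mul, mul_one]
  obtain ⟨P, hP⟩ : ∃ P, P = nb D a ∩ nb D b := ⟨_, rfl⟩
  have hPg : ∀ y ∈ P, g * y * g⁻¹ ∈ P := fun y hy => by
    rw [hP] at hy ⊢
    have h1 := S.weak.nb_conj g hy.1
    have h2 := S.weak.nb_conj g hy.2
    rw [hab] at h1
    rw [hba] at h2
    exact ⟨h2, h1⟩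
  obtain ⟨K, hK⟩ : ∃ K, K = Subgroup.closure P := ⟨_, rfl⟩
  have hKg : ∀ x ∈ K, g * x * g⁻¹ ∈ K := by
    subst hK
    intro x hx
    induction hx using Subgroup.closure_induction with
    | mem y hy => exact Subgroup.subset_closure (hPg y hy)
    | one => simp
    | mul u v _ _ iu iv =>
      have := mul_mem iu iv
      rwa [show g * u * g⁻¹ * (g * v * g⁻¹) = g * (u * v) * g⁻¹ by group] at this
    | inv u _ iu =>
      have := inv_mem iu
      rwa [show (g * u * g⁻¹)⁻¹ = g * u⁻¹ * g⁻¹ by group] at this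
  have hS1 : Setting23 (Dq D a) := S.quot ha
  have hb1 : qd D a b ∈ Dq D a := qd_mem hb
  have hS2 : TypeM22.Setting (Dq (Dq D a) (qd D a b)) := hS1.quot hb1
  have hle : K ≤ Subgroup.closure (nb D a) := hK ▸ hP ▸ pair_le
  have him : ∀ x ∈ K, qd D a x ∈ Subgroup.closure (nb (Dq D a) (qd D a b)) := fun x hx =>
    pair_image24 S ha hb (hP ▸ hK ▸ hx)
  obtain ⟨ρ, hρ⟩ : ∃ ρ : K →* Qd (Dq D a) (qd D a b),
      ∀ x : K, ρ x = qd (Dq D a) (qd D a b) (qd D a (x : G)) :=
    ⟨MonoidHom.mk' (fun x : K => qd (Dq D a) (qd D a b) (qd D a (x : G))) fun x y => by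
      show qd _ _ (qd D a ((x : G) * y)) = _
      rw [qd_mul (hle x.2) (hle y.2), qd_mul (him _ x.2) (him _ y.2)], fun _ => rfl⟩
  have hPK : ∀ y ∈ P, y ∈ K := fun y hy => hK ▸ Subgroup.subset_closure hy
  have himg : ∀ z ∈ Dq (Dq D a) (qd D a b), ∃ y, ∃ hy : y ∈ P, ρ ⟨y, hPK y hy⟩ = z := by
    intro z hz
    obtain ⟨w, hw, rfl⟩ := dq_exists hz
    obtain ⟨y, hy, rfl⟩ := S.pair_lift ha hb hw
    exact ⟨y, hP ▸ hy, hρ _⟩
  have hρP : ∀ y (hy : y ∈ P), ρ ⟨y, hPK y hy⟩ ∈ Dq (Dq D a) (qd D a b) := fun y hy => by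
    rw [hρ]
    have h1 : y ∈ nb D a ∩ nb D b := hP ▸ hy
    exact qd_mem ((S.pair_mem ha hb h1.1).2 h1)
  have hinjP : ∀ y (hy : y ∈ P) z (hz : z ∈ P), ρ ⟨y, hPK y hy⟩ = ρ ⟨z, hPK z hz⟩ → y = z := by
    intro y hy z hz e
    rw [hρ, hρ] at e
    have h1 : y ∈ nb D a ∩ nb D b := hP ▸ hy
    have h2 : z ∈ nb D a ∩ nb D b := hP ▸ hz
    exact S.qd_inj ha h1.1 h2.1
      (hS1.qd_inj hb1 ((S.pair_mem ha hb h1.1).2 h1) ((S.pair_mem ha hb h2.1).2 h2) e)
  have hsurj : Function.Surjective ρ := by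
    rw [← MonoidHom.range_eq_top, eq_top_iff, ← hS2.weak.gen, Subgroup.closure_le]
    intro z hz
    obtain ⟨y, hy, e⟩ := himg z hz
    exact ⟨_, e⟩
  have hker : ∀ x : K, ρ x = 1 ↔ ∀ y ∈ P, Commute (x : G) y := by
    intro x
    constructor
    · intro h y hy
      have hy' : (x : G) * y * (x : G)⁻¹ ∈ P := by
        have hK' : K ≤ Subgroup.centralizer {a, b} := hK ▸ hP ▸ (Subgroup.closure_le _).2 (fun u hu =>
          Subgroup.mem_centralizer_iff.2 (by
            rintro z (rfl | rfl)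
            exacts [hu.1.2.2.eq, hu.2.2.2.eq]))
        have ca : Commute (x : G) a := (Subgroup.mem_centralizer_iff.1 (hK' x.2) a (by simp)).symm
        have cb : Commute (x : G) b := (Subgroup.mem_centralizer_iff.1 (hK' x.2) b (by simp)).symm
        rw [hP] at hy ⊢
        exact ⟨TypeM22.conj_nb S.weak ca hy.1, TypeM22.conj_nb S.weak cb hy.2⟩
      have e : (⟨_, hPK _ hy'⟩ : K) = x * ⟨y, hPK y hy⟩ * x⁻¹ := rfl
      have := hinjP _ hy' y hy (by rw [e, map_mul, map_mul, map_inv, h, one_mul, inv_one, mul_one])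
      exact mul_inv_eq_iff_eq_mul.1 this
    · intro h
      have hc : ρ x ∈ Subgroup.center (Qd (Dq D a) (qd D a b)) := hS2.weak.mem_center fun z hz => by
        obtain ⟨y, hy, rfl⟩ := himg z hz
        exact (show Commute x ⟨y, hPK y hy⟩ from Subtype.ext (h y hy).eq).map ρ
      rwa [hS2.typ.1, Subgroup.mem_bot] at hc
  obtain ⟨α, hα⟩ : ∃ α : K →* K, ∀ x : K, (α x : G) = g * x * g⁻¹ :=
    ⟨MonoidHom.mk' (fun x : K => (⟨g * x * g⁻¹, hKg x x.2⟩ : K)) fun x y => Subtype.ext (by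
      show g * ((x : G) * y) * g⁻¹ = g * x * g⁻¹ * (g * y * g⁻¹)
      group), fun _ => rfl⟩
  have hαα : ∀ x : K, α (α x) = x := fun x => Subtype.ext (by
    rw [hα, hα, hgi]
    calc g * (g * (x : G) * g) * g = g * g * x * (g * g) := by group
      _ = x := by rw [hg, one_mul, mul_one])
  have hkα : ∀ x y : K, ρ x = ρ y → ρ (α x) = ρ (α y) := by
    intro x y h
    rw [← inv_mul_eq_one, ← map_inv, ← map_mul, hker] at h
    rw [← inv_mul_eq_one, ← map_inv, ← map_mul, hker, ← map_inv, ← map_mul]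
    intro u hu
    have := (commute_conj_iff g).2 (h _ (hPg u hu))
    rw [← hα, hgi, show g * (g * u * g) * g = g * g * u * (g * g) by group, hg, one_mul, mul_one] at this
    exact this
  choose s hs using hsurj
  obtain ⟨φ, hφ⟩ : ∃ φ : Qd (Dq D a) (qd D a b) ≃* Qd (Dq D a) (qd D a b), ∀ x : K, φ (ρ x) = ρ (α x) := by
    refine ⟨⟨⟨fun q => ρ (α (s q)), fun q => ρ (α (s q)), fun q => ?_, fun q => ?_⟩, fun q r => ?_⟩,
      fun x => hkα _ _ (hs _)⟩
    · exact (hkα _ _ (hs _)).trans (by rw [hαα, hs])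
    · exact (hkα _ _ (hs _)).trans (by rw [hαα, hs])
    · show ρ (α (s (q * r))) = ρ (α (s q)) * ρ (α (s r))
      rw [← map_mul, ← map_mul]
      exact hkα _ _ (by rw [hs, map_mul, hs, hs])
  have hαP : ∀ y (hy : y ∈ P), α ⟨y, hPK y hy⟩ = ⟨g * y * g⁻¹, hPK _ (hPg y hy)⟩ := fun y hy =>
    Subtype.ext (hα _)
  obtain ⟨z, hz, hfix⟩ := fixes_m22 hS2 φ
    (fun z hz => by
      obtain ⟨y, hy, rfl⟩ := himg z hz
      rw [hφ, hαP y hy]
      exact hρP _ (hPg y hy))
    (fun q => by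
      conv_lhs => rw [← hs q]
      rw [hφ, hφ, hαα, hs])
  obtain ⟨y, hy, rfl⟩ := himg z hz
  rw [hφ, hαP y hy] at hfix
  have hyD : y ∈ nb D a ∩ nb D b := hP ▸ hy
  exact ⟨y, hyD.1.1, hinjP _ (hPg y hy) y hy hfix⟩

/-- Every involution fixes a member. -/
theorem exists_fixed (S : Setting24 D) {g : G} (hg : g * g = 1) : ∃ d ∈ D, g * d * g⁻¹ = d := by
  obtain ⟨a, ha, -⟩ := S.exists_pair
  have hgi : g⁻¹ = g := inv_eq_of_mul_eq_one_right hg
  rcases eq_or_ne (g * a * g⁻¹) a with h | h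
  · exact ⟨a, ha, h⟩
  obtain ⟨b, hb⟩ : ∃ b, b = g * a * g⁻¹ := ⟨_, rfl⟩
  have hbD : b ∈ D := hb ▸ S.cls.conj g a ha
  by_cases hc : Commute a b
  · exact fixed_of_swap S ha ⟨hbD, fun e => h (hb ▸ e), hc⟩ hg hb.symm
  · refine ⟨a * b * a, by simpa [S.weak.inv ha] using S.cls.conj a b hbD, ?_⟩
    have hgb : g * b * g⁻¹ = a := by
      rw [hb, hgi]
      calc g * (g * a * g) * g = g * g * a * (g * g) := by group
        _ = a := by rw [hg, one_mul, mul_one]
    calc g * (a * b * a) * g⁻¹ = g * a * g⁻¹ * (g * b * g⁻¹) * (g * a * g⁻¹) := by group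
      _ = b * a * b := by rw [hgb, ← hb]
      _ = a * b * a := (S.weak.braid ha hbD hc).symm

end CfsgLib.KnownB.TypeM24.Invol
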