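import Cfsg.Agent.Lib.KnownB.TypeM24Invol.Fixed
import Cfsg.Agent.Lib.KnownB.TypeM23.Invol
import Cfsg.Agent.Lib.KnownB.TypeM24Unique.Main

/-!
The classes of involutions of a group of type M(24): products of one to four commuting members.
-/

set_option autoImplicit false

namespace CfsgLib.KnownB.TypeM24.Invol

open Cfsg CfsgLib.ThreeTransp CfsgLib.Involutions
open CfsgLib.KnownB.TypeM22 CfsgLib.KnownB.TypeM23
open CfsgLib.KnownB.TypeM24.Unique

universe u

variable {G : Type u} [Group G] [Finite G] {D : Set G}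

/-- The images of pairwise commuting partners. -/
theorem map_qd (S : Setting24 D) {d : G} (hd : d ∈ D) {t : List G} (ht : ∀ z ∈ t, z ∈ nb D d) (hnd : t.Nodup)
    (hc : ∀ a ∈ t, ∀ b ∈ t, Commute a b) :
    (∀ z ∈ t.map (qd D d), z ∈ Dq D d) ∧ (t.map (qd D d)).Nodup ∧
      (∀ z ∈ t.map (qd D d), ∀ w ∈ t.map (qd D d), Commute z w) ∧
      t.prod ∈ Subgroup.closure (nb D d) ∧ qd D d t.prod = (t.map (qd D d)).prod := by
  obtain ⟨h4, h5⟩ := qd_prod (D := D) fun a ha => mem_H (ht a ha)
  refine ⟨fun z hz => ?_, hnd.map_on fun x hx y hy e => S.qd_inj hd (ht x hx) (ht y hy) e, fun z hz w hw => ?_, h4, h5⟩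
  · obtain ⟨y, hy, rfl⟩ := List.mem_map.1 hz; exact qd_mem (ht y hy)
  · obtain ⟨y, hy, rfl⟩ := List.mem_map.1 hz
    obtain ⟨v, hv, rfl⟩ := List.mem_map.1 hw
    exact (S.qd_comm hd (ht y hy) (ht v hv)).2 (hc y hy v hv)

/-- Lists of images lift to lists of partners. -/
theorem exists_lift (S : Setting24 D) {d : G} (hd : d ∈ D) : ∀ (lq : List (Qd D d)), (∀ z ∈ lq, z ∈ Dq D d) →
    ∃ t : List G, (∀ y ∈ t, y ∈ nb D d) ∧ t.map (qd D d) = lq := by
  intro lq
  induction lq with
  | nil => exact fun _ => ⟨[], by simp, rfl⟩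
  | cons z lq ih =>
    intro h
    obtain ⟨t, ht, e⟩ := ih fun w hw => h w (List.mem_cons_of_mem _ hw)
    obtain ⟨y, hy, ey⟩ := dq_exists (h z List.mem_cons_self)
    exact ⟨y :: t, List.forall_mem_cons.2 ⟨hy, ht⟩, by simp [e, ey]⟩

/-- Products of commuting members square to one. -/
theorem prod_sq (S : Setting24 D) : ∀ L : List G, (∀ a ∈ L, a ∈ D) → (∀ a ∈ L, ∀ b ∈ L, Commute a b) →
    L.prod * L.prod = 1 := by
  intro L
  induction L with
  | nil => simp
  | cons a L ih =>
    intro hL hLc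
    have hcomm : Commute a L.prod := Commute.list_prod_right _ _ fun z hz =>
      hLc a (by simp) z (List.mem_cons_of_mem _ hz)
    rw [List.prod_cons, ← pow_two, hcomm.mul_pow, pow_two, pow_two, S.weak.sq a (hL a (by simp)),
      ih (fun z hz => hL z (List.mem_cons_of_mem _ hz))
        (fun y hy z hz => hLc y (List.mem_cons_of_mem _ hy) z (List.mem_cons_of_mem _ hz)), one_mul]

/-- No short relation holds between commuting members. -/
theorem short_rel (S : Setting24 D) {l : List G} (hl : ∀ a ∈ l, a ∈ D) (hnd : l.Nodup)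
    (hc : ∀ a ∈ l, ∀ b ∈ l, Commute a b) (hlen : l.length ≤ 6) (hprod : l.prod = 1) : l = [] := by
  match l with
  | [] => rfl
  | a :: t =>
    exfalso
    rw [List.nodup_cons] at hnd
    have ha := hl a (by simp)
    obtain ⟨t1, t2, t3, -, t5⟩ := map_qd S ha (t := t)
      (fun z hz => ⟨hl z (by simp [hz]), fun e => hnd.1 (e ▸ hz), hc a (by simp) z (by simp [hz])⟩) hnd.2
      fun x hx y hy => hc x (by simp [hx]) y (by simp [hy])
    rw [List.prod_cons, mul_eq_one_iff_inv_eq, S.weak.inv ha] at hprod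
    rw [← hprod, S.qd_self ha] at t5
    have h0 := (S.quot ha).short_rel t1 t2 t3
      (by simp only [List.length_cons] at hlen; simp only [List.length_map]; omega) t5.symm
    rw [List.map_eq_nil_iff] at h0
    subst h0
    obtain ⟨c, -, hn⟩ := S.cls.exists_noncommute ha
    rw [List.prod_nil] at hprod
    exact hn (hprod ▸ Commute.one_right c)

/-- The sign of a product of members is given by their number. -/
theorem exists_sign (S : Setting24 D) : ∃ χ : G →* ℤˣ, ∀ d ∈ D, χ d = -1 := by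
  obtain ⟨e, he⟩ := TypeM24.exists_iso_fi24 S.group S.prim S.typ
  refine ⟨CfsgLib.Spor.Fi24.parity.comp e.toMonoidHom, fun d hd => ?_⟩
  obtain ⟨w, hw⟩ := isConj_iff.1 (show IsConj (CfsgLib.Spor.Fi24.gen .l) (e d) from
    he.subset (Set.mem_image_of_mem e hd))
  show CfsgLib.Spor.Fi24.parity (e d) = -1
  rw [← hw, map_mul, map_mul, map_inv, mul_comm, inv_mul_cancel_left, CfsgLib.Spor.Fi24.parity_gen]

/-- Two products of commuting members of different lengths differ. -/
theorem length_ne (S : Setting24 D) {l l' : List G} (hl : ∀ a ∈ l, a ∈ D) (hnd : l.Nodup)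
    (hc : ∀ a ∈ l, ∀ b ∈ l, Commute a b) (hl' : ∀ a ∈ l', a ∈ D) (hnd' : l'.Nodup)
    (hc' : ∀ a ∈ l', ∀ b ∈ l', Commute a b) (hlt : l.length < l'.length) (hlen' : l'.length ≤ 4) :
    l.prod ≠ l'.prod := by
  classical
  intro he
  obtain ⟨χ, hχ⟩ := exists_sign S
  have hsign : ∀ L : List G, (∀ a ∈ L, a ∈ D) → χ L.prod = (-1) ^ L.length := by
    intro L
    induction L with
    | nil => simp
    | cons a L ih =>
      intro h
      rw [List.prod_cons, map_mul, hχ a (h a List.mem_cons_self),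
        ih (fun z hz => h z (List.mem_cons_of_mem _ hz)), List.length_cons, pow_succ']
  have hpar : (-1 : ℤˣ) ^ l.length = (-1) ^ l'.length := by rw [← hsign l hl, ← hsign l' hl', he]
  have hshort : l.length + 2 ≤ l'.length ∧ l.length + l'.length ≤ 6 := by
    rcases (show l.length = 0 ∨ l.length = 1 ∨ l.length = 2 ∨ l.length = 3 by omega) with e1 | e1 | e1 | e1 <;>
      rcases (show l'.length = 1 ∨ l'.length = 2 ∨ l'.length = 3 ∨ l'.length = 4 by omega) with e2 | e2 | e2 | e2 <;>
      rw [e1, e2] at hpar ⊢ <;> first | omega | exact absurd hpar (by decide)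
  have hW := S.weak
  have hcross : ∀ a ∈ l, ∀ b ∈ l', Commute a b := fun a ha b hb =>
    (hW.commute_all_of_short (hl' b hb) hl hnd hc
      (he ▸ Commute.list_prod_right _ _ fun z hz => hc' b hb z hz) (by omega) a ha).symm
  obtain ⟨A, hA⟩ : ∃ A, A = l.filter fun a => decide (a ∉ l') := ⟨_, rfl⟩
  obtain ⟨B, hB⟩ : ∃ B, B = l'.filter fun a => decide (a ∉ l) := ⟨_, rfl⟩
  obtain ⟨K, hK⟩ : ∃ K, K = l.filter fun a => !decide (a ∉ l') := ⟨_, rfl⟩
  obtain ⟨K', hK'⟩ : ∃ K', K' = l'.filter fun a => !decide (a ∉ l) := ⟨_, rfl⟩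
  have hKK : K.Perm K' := by
    refine (List.perm_ext_iff_of_nodup (hK ▸ hnd.filter _) (hK' ▸ hnd'.filter _)).2 fun z => ?_
    simp [hK, hK', List.mem_filter, and_comm]
  have hp1 : (A ++ K).Perm l := by rw [hA, hK]; exact List.filter_append_perm _ _
  have hp2 : (B ++ K').Perm l' := by rw [hB, hK']; exact List.filter_append_perm _ _
  have e1 := hp1.prod_eq' (List.pairwise_of_forall_mem_list fun a ha b hb => hc a (hp1.subset ha) b (hp1.subset hb))
  have e2 := hp2.prod_eq' (List.pairwise_of_forall_mem_list fun a ha b hb => hc' a (hp2.subset ha) b (hp2.subset hb))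
  have e3 := hKK.prod_eq' (List.pairwise_of_forall_mem_list fun a ha b hb =>
    hc a (hp1.subset (List.mem_append_right _ ha)) b (hp1.subset (List.mem_append_right _ hb)))
  rw [List.prod_append] at e1 e2
  have hAB : A.prod = B.prod := by
    have h1 : A.prod * K.prod = B.prod * K.prod := by rw [e1, e3, e2, he]
    exact mul_right_cancel h1
  have hmA : ∀ a ∈ A, a ∈ l ∧ a ∉ l' := fun a ha => by simpa [hA, List.mem_filter] using ha
  have hmB : ∀ a ∈ B, a ∈ l' ∧ a ∉ l := fun a ha => by simpa [hB, List.mem_filter] using ha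
  have hlA : A.length + K.length = l.length := by rw [← List.length_append]; exact hp1.length_eq
  have hlB : B.length + K'.length = l'.length := by rw [← List.length_append]; exact hp2.length_eq
  have hBsq : B.prod * B.prod = 1 := prod_sq S B (fun a ha => hl' a (hmB a ha).1)
    fun a ha b hb => hc' a (hmB a ha).1 b (hmB b hb).1
  have hnil := short_rel S (l := A ++ B)
    (fun a ha => (List.mem_append.1 ha).elim (fun q => hl a (hmA a q).1) fun q => hl' a (hmB a q).1)
    (List.nodup_append.2 ⟨hA ▸ hnd.filter _, hB ▸ hnd'.filter _, fun a ha b hb e => (hmB b hb).2 (e ▸ (hmA a ha).1)⟩)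
    (fun a ha b hb => by
      rcases List.mem_append.1 ha with qa | qa <;> rcases List.mem_append.1 hb with qb | qb
      · exact hc a (hmA a qa).1 b (hmA b qb).1
      · exact hcross a (hmA a qa).1 b (hmB b qb).1
      · exact (hcross b (hmA b qb).1 a (hmB a qa).1).symm
      · exact hc' a (hmB a qa).1 b (hmB b qb).1)
    (by rw [List.length_append]; omega) (by rw [List.prod_append, hAB, hBsq])
  have h0 := congrArg List.length hnil
  rw [List.length_append, List.length_nil] at h0
  have := hKK.length_eq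
  omega

/-- A product of at most four commuting members determines their number. -/
theorem length_eq (S : Setting24 D) {l l' : List G} (hl : ∀ a ∈ l, a ∈ D) (hnd : l.Nodup)
    (hc : ∀ a ∈ l, ∀ b ∈ l, Commute a b) (hlen : l.length ≤ 4) (hl' : ∀ a ∈ l', a ∈ D) (hnd' : l'.Nodup)
    (hc' : ∀ a ∈ l', ∀ b ∈ l', Commute a b) (hlen' : l'.length ≤ 4) (he : l.prod = l'.prod) :
    l.length = l'.length := by
  rcases lt_trichotomy l.length l'.length with h | h | h
  · exact absurd he (length_ne S hl hnd hc hl' hnd' hc' h hlen')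
  · exact h
  · exact absurd he.symm (length_ne S hl' hnd' hc' hl hnd hc h hlen)

/-- Every involution is a product of at most four commuting members. -/
theorem invol_prod (S : Setting24 D) {x : G} (hx : x * x = 1) (hx1 : x ≠ 1) :
    ∃ m : ℕ, 1 ≤ m ∧ m ≤ 4 ∧ ∃ l : List G, l.Nodup ∧ l.length = m ∧ (∀ a ∈ l, a ∈ D) ∧
      (∀ a ∈ l, ∀ b ∈ l, Commute a b) ∧ l.prod = x := by
  obtain ⟨d, hd, hxd⟩ := exists_fixed S hx
  have hxH : x ∈ Subgroup.closure (nb D d) := by
    rw [TypeM24.centralizer_eq S.group S.prim S.typ hd, Subgroup.mem_centralizer_singleton_iff]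
    exact mul_inv_eq_iff_eq_mul.1 hxd
  by_cases hq1 : qd D d x = 1
  · rcases S.center_cases hd hxH hq1 with r | r
    · exact absurd r hx1
    · exact ⟨1, le_rfl, by norm_num, [d], by simp, rfl, by simp [hd], by simp, by simp [r]⟩
  obtain ⟨m, hm1, hm3, lq, hnd, hlen, hlD, hlc, hlp⟩ :=
    (S.quot hd).invol_prod (x := qd D d x) (by rw [← qd_mul hxH hxH, hx, qd_one]) hq1
  obtain ⟨t, ht, htm⟩ := exists_lift S hd lq hlD
  have htn : t.Nodup := List.Nodup.of_map _ (htm ▸ hnd)
  have htc : ∀ a ∈ t, ∀ b ∈ t, Commute a b := fun a ha b hb =>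
    (S.qd_comm hd (ht a ha) (ht b hb)).1
      (hlc _ (htm ▸ List.mem_map_of_mem ha) _ (htm ▸ List.mem_map_of_mem hb))
  have htD : ∀ a ∈ t, a ∈ D := fun a ha => (ht a ha).1
  obtain ⟨-, -, -, l4, l5⟩ := map_qd S hd ht htn htc
  rw [htm, hlp] at l5
  have htl : t.length = m := by rw [← hlen, ← htm, List.length_map]
  have hsq := prod_sq S t htD htc
  have hq : qd D d (x * t.prod) = 1 := by
    rw [qd_mul hxH l4, l5, ← qd_mul hxH hxH, hx, qd_one]
  rcases S.center_cases hd (mul_mem hxH l4) hq with r | r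
  · exact ⟨m, hm1, by omega, t, htn, htl, htD, htc,
      by rw [eq_inv_of_mul_eq_one_left r, inv_eq_of_mul_eq_one_right hsq]⟩
  have hxe : x = d * t.prod := by
    calc x = x * t.prod * t.prod := by rw [mul_assoc, hsq, mul_one]
      _ = d * t.prod := congrArg (· * t.prod) r
  refine ⟨m + 1, by omega, by omega, d :: t, List.nodup_cons.2 ⟨fun hh => (ht d hh).2.1 rfl, htn⟩,
    by simp [htl], List.forall_mem_cons.2 ⟨hd, htD⟩, ?_, by rw [List.prod_cons, hxe]⟩
  intro a ha b hb
  rcases List.mem_cons.1 ha with e | ha' <;> rcases List.mem_cons.1 hb with e' | hb'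
  · rw [e, e']
  · rw [e]; exact (ht b hb').2.2
  · rw [e']; exact (ht a ha').2.2.symm
  · exact htc a ha' b hb'

/-- Products of equally many commuting members are conjugate. -/
theorem prod_conj (S : Setting24 D) {l l' : List G} (hl : ∀ a ∈ l, a ∈ D) (hnd : l.Nodup)
    (hc : ∀ a ∈ l, ∀ b ∈ l, Commute a b) (hl' : ∀ a ∈ l', a ∈ D) (hnd' : l'.Nodup)
    (hc' : ∀ a ∈ l', ∀ b ∈ l', Commute a b) (hlen : l.length = l'.length) (h1 : 1 ≤ l.length) (h4 : l.length ≤ 4) :
    IsConj l.prod l'.prod := by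
  match l, l' with
  | [], _ => simp at h1
  | _ :: _, [] => simp at hlen
  | a :: t, a' :: t' =>
    have ha := hl a (by simp)
    have ha' := hl' a' (by simp)
    obtain ⟨g, hg⟩ := S.cls.trans a ha a' ha'
    rw [List.nodup_cons] at hnd hnd'
    have hlt : t.length = t'.length := by simpa using hlen
    obtain ⟨t1, ht1⟩ : ∃ t1, t1 = t.map (MulAut.conj g) := ⟨_, rfl⟩
    have e1 : g * (a :: t).prod * g⁻¹ = a' * t1.prod := by
      rw [ht1, ← map_list_prod, List.prod_cons, MulAut.conj_apply, ← hg]; group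
    have hn1 : ∀ z ∈ t1, z ∈ nb D a' := fun z hz => by
      rw [ht1] at hz
      obtain ⟨y, hy, rfl⟩ := List.mem_map.1 hz
      have := S.weak.nb_conj g (show y ∈ nb D a from
        ⟨hl y (by simp [hy]), fun e => hnd.1 (e ▸ hy), hc a (by simp) y (by simp [hy])⟩)
      rwa [hg] at this
    have hn2 : ∀ z ∈ t', z ∈ nb D a' := fun z hz =>
      ⟨hl' z (by simp [hz]), fun e => hnd'.1 (e ▸ hz), hc' a' (by simp) z (by simp [hz])⟩
    have hd1 : t1.Nodup := ht1 ▸ hnd.2.map (MulEquiv.injective _)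
    have hc1 : ∀ x ∈ t1, ∀ y ∈ t1, Commute x y := fun x hx y hy => by
      rw [ht1] at hx hy
      obtain ⟨u, hu, rfl⟩ := List.mem_map.1 hx
      obtain ⟨v, hv, rfl⟩ := List.mem_map.1 hy
      exact (hc u (by simp [hu]) v (by simp [hv])).map (MulAut.conj g).toMonoidHom
    have hc2 : ∀ x ∈ t', ∀ y ∈ t', Commute x y := fun x hx y hy => hc' x (by simp [hx]) y (by simp [hy])
    rcases Nat.eq_zero_or_pos t.length with h0 | h0
    · have e0 := List.eq_nil_of_length_eq_zero h0
      have e0' := List.eq_nil_of_length_eq_zero (hlt ▸ h0)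
      subst e0 e0'
      exact isConj_iff.2 ⟨g, by simpa using hg⟩
    obtain ⟨m1, m2, m3, m4, m5⟩ := map_qd S ha' hn1 hd1 hc1
    obtain ⟨n1, n2, n3, n4, n5⟩ := map_qd S ha' hn2 hnd'.2 hc2
    have hl1 : t1.length = t.length := by simp [ht1]
    obtain ⟨k, hk⟩ := isConj_iff.1 ((S.quot ha').prod_conj m1 m2 m3 n1 n2 n3 (by simp [hl1, hlt])
      (by simp [hl1]; omega) (by simp [hl1]; simp at h4; omega))
    obtain ⟨h, hh, rfl⟩ := qd_surj k
    rw [← m5, ← n5, ← qd_conj hh m4] at hk
    obtain ⟨w, hw⟩ : ∃ w, w = h * t1.prod * h⁻¹ := ⟨_, rfl⟩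
    rw [← hw] at hk
    have hwH : w ∈ Subgroup.closure (nb D a') := hw ▸ mul_mem (mul_mem hh m4) (inv_mem hh)
    have hsq := prod_sq S t' (fun z hz => hl' z (by simp [hz])) hc2
    have hq : qd D a' (w * t'.prod) = 1 := by rw [qd_mul hwH n4, hk, ← qd_mul n4 n4, hsq, qd_one]
    rcases S.center_cases ha' (mul_mem hwH n4) hq with r | r
    · refine isConj_iff.2 ⟨h * g, ?_⟩
      calc h * g * (a :: t).prod * (h * g)⁻¹ = h * (g * (a :: t).prod * g⁻¹) * h⁻¹ := by group
        _ = h * a' * h⁻¹ * w := by rw [e1, hw]; group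
        _ = (a' :: t').prod := by
          rw [conj_eq_of_commute (commute_closure_nb hh), eq_inv_of_mul_eq_one_left r,
            inv_eq_of_mul_eq_one_right hsq, List.prod_cons]
    · exfalso
      refine length_ne S (l := t1.map (MulAut.conj h)) (l' := a' :: t') ?_ (hd1.map (MulEquiv.injective _)) ?_ hl'
        (List.nodup_cons.2 hnd') hc' (by simp [hl1]; omega) (hlen ▸ h4) ?_
      · intro z hz
        obtain ⟨y, hy, rfl⟩ := List.mem_map.1 hz
        exact S.cls.conj h y (hn1 y hy).1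
      · intro z hz z' hz'
        obtain ⟨y, hy, rfl⟩ := List.mem_map.1 hz
        obtain ⟨y', hy', rfl⟩ := List.mem_map.1 hz'
        exact (hc1 y hy y' hy').map (MulAut.conj h).toMonoidHom
      · rw [← map_list_prod, MulAut.conj_apply, ← hw, List.prod_cons]
        calc w = w * t'.prod * t'.prod := by rw [mul_assoc, hsq, mul_one]
          _ = a' * t'.prod := congrArg (· * t'.prod) r

/-- Four commuting members exist. -/
theorem exists_four (S : Setting24 D) : ∃ l : List G, l.Nodup ∧ l.length = 4 ∧ (∀ a ∈ l, a ∈ D) ∧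
    ∀ a ∈ l, ∀ b ∈ l, Commute a b := by
  obtain ⟨d, hd, -⟩ := S.exists_pair
  obtain ⟨p, q, r, hp, hq, hr⟩ := (S.quot hd).exists_three
  obtain ⟨t, ht, htm⟩ := exists_lift S hd [p, q, r] (by simp [hp, hq.1, hr.1.1])
  have hnd : [p, q, r].Nodup := by simp [hq.2.1.symm, hr.1.2.1.symm, hr.2.2.1.symm]
  have hcq : ∀ z ∈ [p, q, r], ∀ w ∈ [p, q, r], Commute z w := by
    simp [hq.2.2, hr.1.2.2, hr.2.2.2, hq.2.2.symm, hr.1.2.2.symm, hr.2.2.2.symm]
  have hlen : t.length = 3 := by simpa using congrArg List.length htm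
  refine ⟨d :: t, List.nodup_cons.2 ⟨fun hh => (ht d hh).2.1 rfl, List.Nodup.of_map _ (htm ▸ hnd)⟩,
    by simp [hlen], List.forall_mem_cons.2 ⟨hd, fun a ha => (ht a ha).1⟩, ?_⟩
  intro a ha b hb
  rcases List.mem_cons.1 ha with e | ha' <;> rcases List.mem_cons.1 hb with e' | hb'
  · rw [e, e']
  · rw [e]; exact (ht b hb').2.2
  · rw [e']; exact (ht a ha').2.2.symm
  · exact (S.qd_comm hd (ht a ha') (ht b hb')).1
      (hcq _ (htm ▸ List.mem_map_of_mem ha') _ (htm ▸ List.mem_map_of_mem hb'))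

end CfsgLib.KnownB.TypeM24.Invol
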